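/-
The group T = ⟨(01)(23), (02)(13), (01)(45)⟩ of order eight in the alternating group of degree seven, its action
on even sign vectors, and its normalizer in the symmetric group.
-/
import Mathlib.GroupTheory.Perm.Sign
import Mathlib.GroupTheory.Perm.Fin
import Mathlib.Data.Int.Order.Units
import Mathlib.Data.Fintype.Units
import Mathlib.Algebra.BigOperators.Fin
import Mathlib.Data.Fintype.Pi
import Mathlib.Data.Fintype.Perm

set_option autoImplicit false
set_option synthInstance.maxSize 1000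

namespace Cfsg.Agent.Omega7Fusion

open Equiv

/-- sign vectors -/
abbrev SV : Type := Fin 7 → ℤˣ

/-- (01)(23) -/
abbrev pA : Perm (Fin 7) := swap 0 1 * swap 2 3
/-- (02)(13) -/
abbrev pB : Perm (Fin 7) := swap 0 2 * swap 1 3
/-- (01)(45) -/
abbrev pC : Perm (Fin 7) := swap 0 1 * swap 4 5

/-- the elements of T -/
def tP : Fin 8 → Perm (Fin 7) := ![1, pA, pB, pA * pB, pC, pA * pC, pB * pC, pA * pB * pC]

/-- blocks -/
def blk : Fin 7 → Fin 4 := ![0, 0, 1, 1, 2, 2, 3]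
/-- the partner in the block -/
def prt : Fin 7 → Fin 7 := ![1, 0, 3, 2, 5, 4, 6]

/-- even sign vectors -/
abbrev Ev (ε : SV) : Prop := ∏ i, ε i = 1

/-- the sign vector supported on {i, 6} -/
def pv (i : Fin 6) : SV := fun j => if j = i.castSucc ∨ j = 6 then -1 else 1
/-- the sign vector supported on two places -/
def tv (a b : Fin 7) : SV := fun j => if j = a ∨ j = b then -1 else 1

/-- {4,5} -/
def w2 : SV := ![1, 1, 1, 1, -1, -1, 1]
/-- {0,1,2,3} -/
def w4 : SV := ![-1, -1, -1, -1, 1, 1, 1]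
/-- {0,...,5} -/
def w6 : SV := ![-1, -1, -1, -1, -1, -1, 1]

theorem tP_zero : tP 0 = 1 := rfl

theorem tP_mul : ∀ i j : Fin 8, ∃ k, tP i * tP j = tP k := by decide +kernel

theorem tP_inj : ∀ i j : Fin 8, tP i = tP j → i = j := by decide +kernel

theorem tP_noncomm : ∃ i j : Fin 8, tP i * tP j ≠ tP j * tP i := by decide +kernel

theorem tP_pow_four : ∀ k : Fin 8, tP k ^ 4 = 1 := by decide +kernel

theorem tP_gen (k : Fin 8) (P : Set (Perm (Fin 7))) (h1 : (1 : Perm (Fin 7)) ∈ P) (ha : pA ∈ P) (hb : pB ∈ P)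
    (hc : pC ∈ P) (hmul : ∀ x ∈ P, ∀ y ∈ P, x * y ∈ P) : tP k ∈ P := by
  fin_cases k <;> simp only [tP]
  exacts [h1, ha, hb, hmul _ ha _ hb, hc, hmul _ ha _ hc, hmul _ hb _ hc, hmul _ (hmul _ ha _ hb) _ hc]

theorem tP_sign (k : Fin 8) : Perm.sign (tP k) = 1 :=
  tP_gen k {σ | Perm.sign σ = 1} (map_one _) (by simp) (by simp) (by simp)
    fun x hx y hy => by simp_all

theorem fix_one : ∀ i : Fin 8, i ≠ 0 →
    (Finset.univ.filter fun ε : SV => Ev ε ∧ ∀ x, ε (tP i x) = ε x).card ≤ 16 := by decide +kernel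

theorem fix_two : ∀ i j : Fin 8, i ≠ 0 → j ≠ 0 → i ≠ j →
    (Finset.univ.filter fun ε : SV => Ev ε ∧ (∀ x, ε (tP i x) = ε x) ∧ ∀ x, ε (tP j x) = ε x).card ≤ 8 := by
  decide +kernel

theorem ev_card : (Finset.univ.filter fun ε : SV => Ev ε).card = 64 := by decide +kernel

theorem faithful : ∀ i : Fin 8, i ≠ 0 → ∃ ε : SV, Ev ε ∧ ∃ x, ε (tP i x) ≠ ε x := by decide +kernel

theorem invariant : ∀ ε : SV, Ev ε → (∀ i x, ε (tP i x) = ε x) → ε ≠ 1 → ε = w2 ∨ ε = w4 ∨ ε = w6 := by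
  decide +kernel

theorem pv_gen : ∀ ε : SV, Ev ε → ε = ∏ i : Fin 6, if ε i.castSucc = -1 then pv i else 1 := by decide +kernel

theorem w2_eq : w2 = tv 4 5 := by decide

theorem w4_mul : w4 * (fun x => w4 ((swap 0 1 * swap 3 4 : Perm (Fin 7)) x)) = tv 3 4 := by decide +kernel

theorem w6_mul : w6 * (fun x => w6 ((swap 0 1 * swap 5 6 : Perm (Fin 7)) x)) = tv 5 6 := by decide +kernel

theorem exists_even_move {a b : Fin 7} (hab : a ≠ b) (i : Fin 6) :
    ∃ π : Perm (Fin 7), Perm.sign π = 1 ∧ π a = i.castSucc ∧ π b = 6 := by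
  obtain ⟨π, h1, h2⟩ : ∃ π : Perm (Fin 7), π a = i.castSucc ∧ π b = 6 := by
    refine ⟨swap (swap b 6 a) i.castSucc * swap b 6, by simp, ?_⟩
    rw [Perm.mul_apply, swap_apply_left]
    refine swap_apply_of_ne_of_ne ?_ ?_
    · intro h
      exact hab ((swap b 6).injective (by rw [← h, swap_apply_left]))
    · intro h
      have := congrArg Fin.val h
      simp at this
      omega
  rcases Int.units_eq_one_or (Perm.sign π) with h | h
  · exact ⟨π, h, h1, h2⟩
  obtain ⟨x, y, hxy, hxi, hyi, hx6, hy6⟩ : ∃ x y : Fin 7, x ≠ y ∧ x ≠ i.castSucc ∧ y ≠ i.castSucc ∧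
      x ≠ 6 ∧ y ≠ 6 := by clear h h1 h2; revert i; decide +kernel
  refine ⟨swap x y * π, by rw [map_mul, h, Perm.sign_swap hxy]; rfl, ?_, ?_⟩
  · rw [Perm.mul_apply, h1, swap_apply_of_ne_of_ne hxi.symm hyi.symm]
  · rw [Perm.mul_apply, h2, swap_apply_of_ne_of_ne hx6.symm hy6.symm]

theorem conj_pB : (swap 1 2 * swap 4 5 : Perm (Fin 7)) * pA = pB * (swap 1 2 * swap 4 5) := by decide +kernel

theorem conj_pC : (swap 2 4 * swap 3 5 : Perm (Fin 7)) * pA = pC * (swap 2 4 * swap 3 5) := by decide +kernel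

theorem fix_all : ∀ x : Fin 7, (∀ l, tP l x = x) → x = 6 := by decide +kernel

theorem orbit_two : ∀ x y : Fin 7, (∀ l, tP l x = x ∨ tP l x = y) → x = 4 ∨ x = 5 ∨ x = 6 := by decide +kernel

theorem blk_detect : ∀ (l : Fin 8) (x y z : Fin 7), x < 4 → y < 4 → z < 4 → x ≠ y → tP l x = y → tP l z = z →
    tP l 4 = 5 → blk x = blk y := by decide +kernel

theorem prt_eq : ∀ x y : Fin 7, blk x = blk y → x ≠ y → y = prt x := by decide +kernel

theorem normal_list : ∀ x0 x2 x4 : Fin 7, x0 < 4 → x2 < 4 → blk x0 ≠ blk x2 → (x4 = 4 ∨ x4 = 5) →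
    ∃ k, (∀ i, (![x0, prt x0, x2, prt x2, x4, prt x4, 6] : Fin 7 → Fin 7) i = tP k i) ∨
      ∀ i, (![x0, prt x0, x2, prt x2, x4, prt x4, 6] : Fin 7 → Fin 7) i = (swap 4 5 * tP k : Perm (Fin 7)) i := by
  decide +kernel

theorem c_moves : tP 4 0 = 1 ∧ tP 4 1 = 0 ∧ tP 4 2 = 2 ∧ tP 4 4 = 5 ∧ tP 4 5 = 4 ∧
    tP 5 2 = 3 ∧ tP 5 3 = 2 ∧ tP 5 0 = 0 ∧ tP 5 4 = 5 ∧ tP 5 5 = 4 := by decide +kernel

theorem tP_six : ∀ k, tP k 6 = 6 := by decide +kernel

theorem tP_four : ∀ k, (tP k 4 = 4 ∧ tP k 5 = 5) ∨ (tP k 4 = 5 ∧ tP k 5 = 4) := by decide +kernel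

/-- The normalizer of T in the symmetric group is T × ⟨(45)⟩. -/
theorem normalizer_list (σ : Perm (Fin 7)) (h : ∀ k, ∃ l, σ * tP k = tP l * σ) :
    ∃ k, σ = tP k ∨ σ = swap 4 5 * tP k := by
  choose f hf using h
  have hap : ∀ k x, tP (f k) (σ x) = σ (tP k x) := fun k x => (Equiv.ext_iff.1 (hf k) x).symm
  have finj : Function.Injective f := fun i j hij =>
    tP_inj i j (mul_left_cancel ((hf i).trans (by rw [hij, ← hf j])))
  have fsurj := Finite.surjective_of_injective finj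
  have h6 : σ 6 = 6 := fix_all _ fun l => by obtain ⟨k, rfl⟩ := fsurj l; rw [hap, tP_six]
  have h45 : (σ 4 = 4 ∨ σ 4 = 5) ∧ (σ 5 = 4 ∨ σ 5 = 5) := by
    have aux : ∀ x y : Fin 7, x ≠ 6 → (∀ k, tP k x = x ∨ tP k x = y) → σ x = 4 ∨ σ x = 5 := by
      intro x y hx hxy
      have hne : σ x ≠ 6 := fun h => hx (σ.injective (h.trans h6.symm))
      have := orbit_two (σ x) (σ y) fun l => by
        obtain ⟨k, rfl⟩ := fsurj l
        rw [hap]
        rcases hxy k with h | h <;> simp [h]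
      tauto
    exact ⟨aux 4 5 (by decide) fun k => (tP_four k).imp And.left And.left,
      aux 5 4 (by decide) fun k => (tP_four k).imp And.right And.right⟩
  have hlt : ∀ x : Fin 7, x < 4 → σ x < 4 := by
    intro x hx
    have n4 : σ x ≠ σ 4 := fun h => by rw [σ.injective h] at hx; exact absurd hx (by decide)
    have n5 : σ x ≠ σ 5 := fun h => by rw [σ.injective h] at hx; exact absurd hx (by decide)
    have n45 : σ 4 ≠ σ 5 := fun h => absurd (σ.injective h) (by decide)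
    have n6 : σ x ≠ 6 := fun h => by rw [σ.injective (h.trans h6.symm)] at hx; exact absurd hx (by decide)
    revert n4 n5 n45 n6
    obtain ⟨a, b⟩ := h45
    generalize σ x = u
    rcases a with a | a <;> rcases b with b | b <;> rw [a, b] <;> revert u <;> decide
  obtain ⟨c0, c1, c2, c4, c5, d2, d3, d0, d4, d5⟩ := c_moves
  have hflip : ∀ k, tP k 4 = 5 → tP (f k) 4 = 5 := by
    intro k hk
    obtain ⟨hk4, hk5⟩ : tP k 4 = 5 ∧ tP k 5 = 4 :=
      ((tP_four k).resolve_left fun h => absurd (h.1.symm.trans hk) (by decide))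
    have n45 : σ 4 ≠ σ 5 := fun h => absurd (σ.injective h) (by decide)
    rcases h45.1 with e | e
    · have h := hap k 4
      rw [e, hk4, h45.2.resolve_left fun h' => n45 (e.trans h'.symm)] at h
      exact h
    · have h := hap k 5
      rw [h45.2.resolve_right fun h' => n45 (e.trans h'.symm), hk5, e] at h
      exact h
  have hb01 : blk (σ 0) = blk (σ 1) :=
    blk_detect (f 4) _ _ (σ 2) (hlt 0 (by decide)) (hlt 1 (by decide)) (hlt 2 (by decide))
      (fun h => absurd (σ.injective h) (by decide)) (by rw [hap, c0]) (by rw [hap, c2]) (hflip 4 c4)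
  have hb23 : blk (σ 2) = blk (σ 3) :=
    blk_detect (f 5) _ _ (σ 0) (hlt 2 (by decide)) (hlt 3 (by decide)) (hlt 0 (by decide))
      (fun h => absurd (σ.injective h) (by decide)) (by rw [hap, d2]) (by rw [hap, d0]) (hflip 5 d4)
  have e1 : σ 1 = prt (σ 0) := prt_eq _ _ hb01 fun h => absurd (σ.injective h) (by decide)
  have e3 : σ 3 = prt (σ 2) := prt_eq _ _ hb23 fun h => absurd (σ.injective h) (by decide)
  have e5 : σ 5 = prt (σ 4) := by
    have n45 : σ 4 ≠ σ 5 := fun h => absurd (σ.injective h) (by decide)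
    revert n45
    obtain ⟨a | a, b | b⟩ := h45 <;> rw [a, b] <;> decide
  have hne : blk (σ 0) ≠ blk (σ 2) := fun h => by
    have := (prt_eq _ _ h fun h' => absurd (σ.injective h') (by decide)).trans e1.symm
    exact absurd (σ.injective this) (by decide)
  have hf7 : ∀ i, (![σ 0, prt (σ 0), σ 2, prt (σ 2), σ 4, prt (σ 4), 6] : Fin 7 → Fin 7) i = σ i := by
    intro i
    fin_cases i <;> simp [e1, e3, e5, h6]
  obtain ⟨k, hk | hk⟩ := normal_list _ _ _ (hlt 0 (by decide)) (hlt 2 (by decide)) hne h45.1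
  · exact ⟨k, Or.inl (Equiv.ext fun i => (hf7 i).symm.trans (hk i))⟩
  · exact ⟨k, Or.inr (Equiv.ext fun i => (hf7 i).symm.trans (hk i))⟩

end Cfsg.Agent.Omega7Fusion
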