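/-
Monomial isometries of a seven-dimensional space with an orthogonal basis of constant norm, and their spinor values.
-/
import Cfsg.Agent.Lib.Orthogonal.OmegaIndex
import Cfsg.Agent.Lib.Orthogonal.Counts
import Cfsg.Agent.Lib.Orthogonal.Frames
import Cfsg.Agent.Lib.Omega7Fusion.Perm
import Mathlib.LinearAlgebra.Basis.SMul

set_option autoImplicit false

namespace Cfsg.Agent.Omega7Fusion

open QuadraticMap Module Equiv Cfsg.Agent.Orth

variable {F V : Type*} [Field F] [AddCommGroup V] [Module F V] {Q : QuadraticForm F V}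

/-- An orthogonal basis of constant norm c. -/
structure IsStd (Q : QuadraticForm F V) (b : Basis (Fin 7) F V) (c : F) : Prop where
  two : (2 : F) ≠ 0
  ne : c ≠ 0
  val : ∀ i, Q (b i) = c
  orth : ∀ i j, i ≠ j → polar Q (b i) (b j) = 0

theorem IsStd.polar_eq {b : Basis (Fin 7) F V} {c : F} (hb : IsStd Q b c) (r s : Fin 7 → F) :
    polar Q (∑ i, r i • b i) (∑ i, s i • b i) = 2 * c * ∑ i, r i * s i := by
  rw [← polarBilin_apply_apply]
  simp only [map_sum, LinearMap.sum_apply, map_smul, LinearMap.smul_apply, smul_eq_mul, polarBilin_apply_apply]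
  rw [Finset.mul_sum]
  refine Finset.sum_congr rfl fun i _ => ?_
  rw [Finset.sum_eq_single i]
  · rw [b_self, hb.val]; ring
  · intro j _ hj
    rw [hb.orth j i hj]
    simp
  · simp

theorem IsStd.q_eq {b : Basis (Fin 7) F V} {c : F} (hb : IsStd Q b c) (r : Fin 7 → F) :
    Q (∑ i, r i • b i) = c * ∑ i, r i * r i := by
  refine mul_left_cancel₀ hb.two ?_
  rw [← b_self, hb.polar_eq]
  ring

/-- An equivalence sending the basis to an orthogonal family of the same norm is an isometry. -/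
theorem IsStd.mem_oGroup {b : Basis (Fin 7) F V} {c : F} (hb : IsStd Q b c) {g : V ≃ₗ[F] V}
    (hv : ∀ i, Q (g (b i)) = c) (ho : ∀ i j, i ≠ j → polar Q (g (b i)) (g (b j)) = 0) : g ∈ oGroup Q := by
  intro x
  have hb' : IsStd Q (b.map g) c := ⟨hb.two, hb.ne, fun i => hv i, fun i j h => ho i j h⟩
  conv_lhs => rw [← b.sum_repr x, map_sum]
  conv_rhs => rw [← b.sum_repr x]
  simp only [map_smul]
  rw [hb.q_eq]
  exact hb'.q_eq (fun i => b.repr x i)

/-- the scalar of a sign -/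
def cu (F : Type*) [Field F] : ℤˣ →* Fˣ := Units.map (Int.castRingHom F).toMonoidHom

theorem cu_cases (e : ℤˣ) : (cu F e : F) = if e = 1 then 1 else -1 := by
  rcases Int.units_eq_one_or e with rfl | rfl <;> simp [cu]

theorem cu_sq (e : ℤˣ) : (cu F e : F) * (cu F e : F) = 1 := by
  rw [cu_cases]; split_ifs <;> ring

theorem cu_inj (h2 : (2 : F) ≠ 0) {e e' : ℤˣ} (h : (cu F e : F) = cu F e') : e = e' := by
  rw [cu_cases, cu_cases] at h
  rcases Int.units_eq_one_or e with rfl | rfl <;> rcases Int.units_eq_one_or e' with rfl | rfl <;>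
    first
      | rfl
      | (exfalso; simp at h; exact h2 (by linear_combination h))
      | (exfalso; simp at h; exact h2 (by linear_combination -h))

/-- The monomial map b i ↦ ε (σ i) b (σ i). -/
noncomputable def mn (b : Basis (Fin 7) F V) (ε : SV) (σ : Perm (Fin 7)) : V ≃ₗ[F] V :=
  b.equiv (b.unitsSMul fun j => cu F (ε j)) σ

theorem mn_apply (b : Basis (Fin 7) F V) (ε : SV) (σ : Perm (Fin 7)) (i : Fin 7) :
    mn b ε σ (b i) = (cu F (ε (σ i)) : F) • b (σ i) := by
  rw [mn, Basis.equiv_apply, Basis.unitsSMul_apply, Units.smul_def]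

theorem mn_mul (b : Basis (Fin 7) F V) (ε ε' : SV) (σ σ' : Perm (Fin 7)) :
    mn b ε σ * mn b ε' σ' = mn b (ε * fun x => ε' (σ.symm x)) (σ * σ') := by
  refine b.ext' fun i => ?_
  rw [LinearEquiv.mul_apply, mn_apply, map_smul, mn_apply, mn_apply, Perm.mul_apply, smul_smul, Pi.mul_apply,
    Equiv.symm_apply_apply, map_mul, Units.val_mul, mul_comm]

theorem mn_one (b : Basis (Fin 7) F V) : mn b 1 1 = 1 := b.ext' fun i => by
  rw [mn_apply]; simp

theorem mn_inj (h2 : (2 : F) ≠ 0) (b : Basis (Fin 7) F V) {ε ε' : SV} {σ σ' : Perm (Fin 7)}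
    (h : mn b ε σ = mn b ε' σ') : ε = ε' ∧ σ = σ' := by
  have h1 : ∀ i, (cu F (ε (σ i)) : F) • b (σ i) = (cu F (ε' (σ' i)) : F) • b (σ' i) := fun i => by
    rw [← mn_apply, ← mn_apply, h]
  have hσ : σ = σ' := Equiv.ext fun i => by
    by_contra hne
    have h3 := congrArg (fun v => b.repr v (σ i)) (h1 i)
    simp [Finsupp.single_apply, Ne.symm hne] at h3
  subst hσ
  refine ⟨funext fun j => ?_, rfl⟩
  obtain ⟨i, rfl⟩ := σ.surjective j
  refine cu_inj h2 ?_
  have h3 := congrArg (fun v => b.repr v (σ i)) (h1 i)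
  simpa using h3

theorem mn_mem {b : Basis (Fin 7) F V} {c : F} (hb : IsStd Q b c) (ε : SV) (σ : Perm (Fin 7)) :
    mn b ε σ ∈ oGroup Q :=
  hb.mem_oGroup (fun i => by rw [mn_apply, q_smul, cu_sq, one_mul, hb.val])
    fun i j hij => by
      rw [mn_apply, mn_apply, b_smul_left, b_smul_right, hb.orth _ _ fun h => hij (σ.injective h)]
      simp

/-- diagonal elements -/
noncomputable def dgH {b : Basis (Fin 7) F V} {c : F} (hb : IsStd Q b c) : SV →* oGroup Q :=
  MonoidHom.mk' (fun ε => ⟨mn b ε 1, mn_mem hb ε 1⟩) fun ε ε' => Subtype.ext (by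
    show mn b (ε * ε') 1 = mn b ε 1 * mn b ε' 1
    rw [mn_mul]
    simp [show (1 : Perm (Fin 7)).symm = 1 from rfl])

/-- permutation elements -/
noncomputable def pmH {b : Basis (Fin 7) F V} {c : F} (hb : IsStd Q b c) : Perm (Fin 7) →* oGroup Q :=
  MonoidHom.mk' (fun σ => ⟨mn b 1 σ, mn_mem hb 1 σ⟩) fun σ σ' => Subtype.ext (by
    show mn b 1 (σ * σ') = mn b 1 σ * mn b 1 σ'
    rw [mn_mul]
    congr 1)

theorem dgH_mul_pmH {b : Basis (Fin 7) F V} {c : F} (hb : IsStd Q b c) (ε : SV) (σ : Perm (Fin 7)) :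
    ((dgH hb ε * pmH hb σ : oGroup Q) : V ≃ₗ[F] V) = mn b ε σ := by
  show mn b ε 1 * mn b 1 σ = _
  rw [mn_mul, one_mul]
  congr 1
  ext x
  simp

/-- The value on a single sign. -/
theorem chi_single {b : Basis (Fin 7) F V} {c : F} (hb : IsStd Q b c) (χ : oGroup Q →* SpinVal F)
    (hχ : ∀ (r : oGroup Q) (v : V), IsRefl r.1 Q v → χ r = reflVal Q v) (i : Fin 7) :
    χ (dgH hb (Pi.mulSingle i (-1))) = (Multiplicative.ofAdd 1, sqc F c) := by
  have hne : Q (b i) ≠ 0 := by rw [hb.val]; exact hb.ne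
  obtain ⟨r, hr, hr'⟩ := exists_isRefl hne
  have he : mn b (Pi.mulSingle i (-1)) 1 = r := b.ext' fun j => by
    rw [mn_apply, Perm.one_apply]
    rcases eq_or_ne j i with rfl | hji
    · rw [Pi.mulSingle_eq_same, cu_cases, hr'.2, b_self, mul_div_assoc, div_self hne]
      simp
      module
    · rw [Pi.mulSingle_eq_of_ne hji, hr'.fix (hb.orth j i hji)]
      simp
  have := hχ (dgH hb (Pi.mulSingle i (-1))) (b i) (by
    show IsRefl (mn b (Pi.mulSingle i (-1)) 1) Q (b i)
    rw [he]; exact hr')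
  rw [this, reflVal, hb.val]

theorem chi_dgH {b : Basis (Fin 7) F V} {c : F} (hb : IsStd Q b c) (χ : oGroup Q →* SpinVal F)
    (hχ : ∀ (r : oGroup Q) (v : V), IsRefl r.1 Q v → χ r = reflVal Q v) (ε : SV) :
    χ (dgH hb ε) = if ∏ i, ε i = 1 then 1 else (Multiplicative.ofAdd 1, sqc F c) := by
  obtain ⟨φ, hφ⟩ : ∃ φ : SV →* SpinVal F, φ = χ.comp (dgH hb) := ⟨_, rfl⟩
  have hs : ∀ i, φ (Pi.mulSingle i (-1)) = (Multiplicative.ofAdd 1, sqc F c) := fun i => by
    rw [hφ]; exact chi_single hb χ hχ i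
  have h0 : ∀ (i : Fin 7) (e : ℤˣ), φ (Pi.mulSingle i e) = φ (Pi.mulSingle 0 e) := by
    intro i e
    rcases Int.units_eq_one_or e with rfl | rfl
    · simp
    · rw [hs, hs]
  have hsum : φ ε = φ (Pi.mulSingle 0 (∏ i, ε i)) := by
    conv_lhs => rw [← Finset.univ_prod_mulSingle ε]
    rw [map_prod, ← MonoidHom.mulSingle_apply, ← MonoidHom.comp_apply, map_prod]
    exact Finset.prod_congr rfl fun i _ => h0 i _
  rw [show χ (dgH hb ε) = φ ε by rw [hφ]; rfl, hsum]
  rcases Int.units_eq_one_or (∏ i, ε i) with h | h <;> rw [h]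
  · simp
  · rw [hs, if_neg (by decide)]

theorem chi_pmH {b : Basis (Fin 7) F V} {c : F} (hb : IsStd Q b c) (χ : oGroup Q →* SpinVal F)
    (hχ : ∀ (r : oGroup Q) (v : V), IsRefl r.1 Q v → χ r = reflVal Q v) (σ : Perm (Fin 7)) :
    χ (pmH hb σ) = if Perm.sign σ = 1 then 1 else (Multiplicative.ofAdd 1, sqc F (2 * c)) := by
  have hsw : ∀ i j : Fin 7, i ≠ j → χ (pmH hb (swap i j)) = (Multiplicative.ofAdd 1, sqc F (2 * c)) := by
    intro i j hij
    have hval : Q (b i - b j) = 2 * c := by rw [q_sub, hb.val, hb.val, hb.orth i j hij]; ring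
    have hne : Q (b i - b j) ≠ 0 := by rw [hval]; exact mul_ne_zero hb.two hb.ne
    obtain ⟨r, hr, hr'⟩ := exists_isRefl hne
    have he : mn b 1 (swap i j) = r := b.ext' fun k => by
      rw [mn_apply]
      simp only [Pi.one_apply, map_one, Units.val_one, one_smul]
      rcases eq_or_ne k i with rfl | hki
      · rw [swap_apply_left, hr'.2, hval, b_sub_right, b_self, hb.val, hb.orth k j hij, sub_zero,
          div_self (mul_ne_zero hb.two hb.ne), one_smul, sub_sub_cancel]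
      rcases eq_or_ne k j with rfl | hkj
      · rw [swap_apply_right, hr'.2, hval, b_sub_right, b_self, hb.val, hb.orth k i hki, zero_sub, neg_div,
          div_self (mul_ne_zero hb.two hb.ne)]
        module
      · rw [swap_apply_of_ne_of_ne hki hkj,
          hr'.fix (by rw [b_sub_right, hb.orth k i hki, hb.orth k j hkj, sub_zero])]
    have := hχ (pmH hb (swap i j)) (b i - b j) (by
      show IsRefl (mn b 1 (swap i j)) Q (b i - b j)
      rw [he]; exact hr')
    rw [this, reflVal, hval]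
  have hYY : ((Multiplicative.ofAdd 1, sqc F (2 * c)) : SpinVal F) * (Multiplicative.ofAdd 1, sqc F (2 * c)) = 1 :=
    Prod.ext (show Multiplicative.ofAdd (1 : ZMod 2) * Multiplicative.ofAdd 1 = 1 by decide)
      (sqc_mul_self (mul_ne_zero hb.two hb.ne))
  induction σ using Perm.swap_induction_on with
  | one => simp
  | swap_mul f x y hxy ih =>
    rw [map_mul, map_mul, ih, hsw x y hxy, map_mul, Perm.sign_swap hxy]
    rcases Int.units_eq_one_or (Perm.sign f) with h | h <;> rw [h]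
    · rw [if_pos rfl, if_neg (by decide)]; exact mul_one (_ : SpinVal F)
    · rw [if_neg (by decide), if_pos (by decide), hYY]

/-- A monomial isometry has trivial invariant iff both parts are even. -/
theorem chi_mn_iff {b : Basis (Fin 7) F V} {c : F} (hb : IsStd Q b c) (h2ns : ¬IsSquare (2 : F))
    (χ : oGroup Q →* SpinVal F) (hχ : ∀ (r : oGroup Q) (v : V), IsRefl r.1 Q v → χ r = reflVal Q v)
    (g : oGroup Q) (ε : SV) (σ : Perm (Fin 7)) (hg : g.1 = mn b ε σ) :
    χ g = 1 ↔ Ev ε ∧ Perm.sign σ = 1 := by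
  obtain rfl : g = dgH hb ε * pmH hb σ := Subtype.ext (hg.trans (dgH_mul_pmH hb ε σ).symm)
  rw [map_mul, chi_dgH hb χ hχ, chi_pmH hb χ hχ]
  have h1 : ∀ x : SqCls F, ((Multiplicative.ofAdd 1, x) : SpinVal F) ≠ 1 := fun x h =>
    absurd (congrArg Prod.fst h) (show Multiplicative.ofAdd (1 : ZMod 2) ≠ 1 by decide)
  constructor
  · intro h
    split_ifs at h with ha hs hs
    · exact ⟨ha, hs⟩
    · exact absurd ((one_mul (_ : SpinVal F)).symm.trans h) (h1 _)
    · exact absurd ((mul_one (_ : SpinVal F)).symm.trans h) (h1 _)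
    · refine absurd ((sqc_eq_one_iff hb.two).1 ?_) h2ns
      have h3 := congrArg Prod.snd h
      rw [Prod.snd_mul, Prod.snd_one, sqc_mul hb.two hb.ne, mul_comm (sqc F (2 : F)), ← mul_assoc,
        sqc_mul_self hb.ne] at h3
      exact (one_mul (_ : SqCls F)).symm.trans h3
  · rintro ⟨ha, hs⟩
    rw [if_pos ha, if_pos hs]; exact mul_one (_ : SpinVal F)

/-- The coefficients of the frame diagonalizing (01)(23). -/
def rotM (a d : F) : Fin 7 → Fin 7 → F :=
  ![![a, -a, d, -d, 0, 0, 0], ![-d, d, a, -a, 0, 0, 0], ![a, a, d, d, 0, 0, 0], ![-d, -d, a, a, 0, 0, 0],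
    ![0, 0, 0, 0, 1, 0, 0], ![0, 0, 0, 0, 0, 1, 0], ![0, 0, 0, 0, 0, 0, 1]]

/-- (01)(23) is conjugate in the kernel of the invariant to diag(-1,-1,1,1,1,1,1). -/
theorem exists_conj_pA [Fintype F] {b : Basis (Fin 7) F V} {c : F} (hb : IsStd Q b c) (h2ns : ¬IsSquare (2 : F))
    (χ : oGroup Q →* SpinVal F) (hχ : ∀ (r : oGroup Q) (v : V), IsRefl r.1 Q v → χ r = reflVal Q v) :
    ∃ g : oGroup Q, χ g = 1 ∧ g * dgH hb (tv 0 1) = pmH hb pA * g := by
  haveI : FiniteDimensional F V := .of_basis b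
  obtain ⟨a, d, had⟩ : ∃ a d : F, a * a + d * d = 1 / 2 := by
    obtain ⟨x, y, hxy⟩ := FiniteField.exists_root_sum_quadratic (f := (Polynomial.X : Polynomial F) ^ 2)
      (g := (Polynomial.X : Polynomial F) ^ 2 - Polynomial.C (1 / 2))
      (Polynomial.degree_X_pow 2) (Polynomial.degree_X_pow_sub_C (by norm_num) _)
      (FiniteField.odd_card_of_char_ne_two fun h => hb.two (by
        haveI := ringChar.of_eq h; exact CharTwo.two_eq_zero))
    simp at hxy
    exact ⟨x, y, by rw [one_div]; linear_combination hxy⟩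
  have had' : 2 * (a * a + d * d) = 1 := by rw [had, mul_one_div, div_self hb.two]
  have hM : ∀ i k, ∑ j, rotM a d i j * rotM a d k j = if i = k then 1 else 0 := by
    intro i k
    fin_cases i <;> fin_cases k <;>
      simp [rotM, Fin.sum_univ_succ] <;>
      first
        | ring1
        | linear_combination had'
  obtain ⟨f, hf⟩ : ∃ f : Fin 7 → V, f = fun i => ∑ j, rotM a d i j • b j := ⟨_, rfl⟩
  have hfv : ∀ i, Q (f i) = c := fun i => by simp only [hf]; rw [hb.q_eq, hM, if_pos rfl, mul_one]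
  have hfo : ∀ i k, i ≠ k → polar Q (f i) (f k) = 0 := fun i k hik => by
    simp only [hf]; rw [hb.polar_eq, hM, if_neg hik, mul_zero]
  have hli : LinearIndependent F f :=
    IsFrame.indep (Q := Q) ⟨hfo, fun i => by rw [hfv]; exact hb.ne⟩ hb.two
  let bf : Basis (Fin 7) F V := basisOfLinearIndependentOfCardEqFinrank hli (Module.finrank_eq_card_basis b).symm
  have hbf : ∀ i, bf i = f i := fun i => congrFun (coe_basisOfLinearIndependentOfCardEqFinrank hli _) i
  have g0mem : b.equiv bf (Equiv.refl _) ∈ oGroup Q :=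
    hb.mem_oGroup (fun i => by rw [Basis.equiv_apply, hbf]; exact hfv _)
      fun i j hij => by rw [Basis.equiv_apply, Basis.equiv_apply, hbf, hbf]; exact hfo _ _ hij
  obtain ⟨g0, hg0⟩ : ∃ g0 : oGroup Q, g0 = ⟨_, g0mem⟩ := ⟨_, rfl⟩
  have hcomm : g0 * dgH hb (tv 0 1) = pmH hb pA * g0 := by
    refine Subtype.ext (b.ext' fun i => ?_)
    show (g0 : V ≃ₗ[F] V) (mn b (tv 0 1) 1 (b i)) = mn b 1 pA ((g0 : V ≃ₗ[F] V) (b i))
    have hgi : ∀ i, (g0 : V ≃ₗ[F] V) (b i) = f i := fun i => by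
      rw [hg0]; show b.equiv bf (Equiv.refl _) (b i) = _; rw [Basis.equiv_apply, Equiv.refl_apply, hbf]
    rw [mn_apply, map_smul, Perm.one_apply, hgi]
    simp only [hf, Fin.sum_univ_seven, map_add, map_smul, mn_apply]
    fin_cases i <;> simp [rotM, tv, cu_cases, pA, swap_apply_of_ne_of_ne] <;> module
  -- correct the invariant by an element commuting with the diagonal involution
  have key : ∀ z : SpinVal F, ∃ h : oGroup Q, χ h = z ∧ h * dgH hb (tv 0 1) = dgH hb (tv 0 1) * h := by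
    have hcd : dgH hb (Pi.mulSingle 6 (-1)) * dgH hb (tv 0 1) = dgH hb (tv 0 1) * dgH hb (Pi.mulSingle 6 (-1)) := by
      rw [← map_mul, ← map_mul, mul_comm]
    have hcp : pmH hb (swap 4 5) * dgH hb (tv 0 1) = dgH hb (tv 0 1) * pmH hb (swap 4 5) := by
      refine Subtype.ext ?_
      show mn b 1 (swap 4 5) * mn b (tv 0 1) 1 = mn b (tv 0 1) 1 * mn b 1 (swap 4 5)
      rw [mn_mul, mn_mul, mul_one, one_mul]
      congr 1
      funext x
      fin_cases x <;> simp [tv, swap_apply_of_ne_of_ne]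
    have hd6 := chi_single hb χ hχ 6
    have hp45 := chi_pmH hb χ hχ (swap 4 5)
    rw [Perm.sign_swap (by decide), if_neg (by decide)] at hp45
    have h2c : sqc F (2 : F) ≠ 1 := fun h => h2ns ((sqc_eq_one_iff hb.two).1 h)
    have hcls : ∀ y : SqCls F, y = 1 ∨ y = sqc F (2 : F) := fun y => by
      by_contra! hy
      obtain ⟨u, -, hu⟩ := (Nat.card_eq_two_iff' (1 : SqCls F)).1 ((card_sqCls_le (F := F)).2.1 hb.two)
      exact hy.2 ((hu y hy.1).trans (hu _ h2c).symm)
    have h11 : Multiplicative.ofAdd (1 : ZMod 2) * Multiplicative.ofAdd 1 = 1 := by decide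
    rintro ⟨e, y⟩
    have he : e = 1 ∨ e = Multiplicative.ofAdd 1 := by revert e; decide
    rcases he with rfl | rfl
    · rcases hcls y with rfl | rfl
      · exact ⟨1, map_one χ, by rw [one_mul, mul_one]⟩
      · refine ⟨dgH hb (Pi.mulSingle 6 (-1)) * pmH hb (swap 4 5), ?_, ?_⟩
        · rw [map_mul, hd6, hp45, Prod.mk_mul_mk, h11, sqc_mul hb.two hb.ne, mul_comm (sqc F (2 : F)), ← mul_assoc,
            sqc_mul_self hb.ne, one_mul]
        · rw [mul_assoc, hcp, ← mul_assoc, hcd, mul_assoc]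
    · rcases hcls (y * sqc F c) with hy | hy
      · refine ⟨_, hd6.trans (Prod.ext rfl ?_), hcd⟩
        show sqc F c = y
        calc sqc F c = y * sqc F c * sqc F c := by rw [hy, one_mul]
          _ = y := by rw [mul_assoc, sqc_mul_self hb.ne, mul_one]
      · refine ⟨_, hp45.trans (Prod.ext rfl ?_), hcp⟩
        show sqc F (2 * c) = y
        rw [sqc_mul hb.two hb.ne, ← hy, mul_assoc, sqc_mul_self hb.ne, mul_one]
  obtain ⟨h, hh, hhc⟩ := key (χ g0)⁻¹
  exact ⟨g0 * h, by rw [map_mul, hh, mul_inv_cancel], by rw [mul_assoc, hhc, ← mul_assoc, hcomm, mul_assoc]⟩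

/-- The split form of dimension seven has an orthogonal basis of constant norm -1. -/
theorem exists_std [Fintype F] (h2 : (2 : F) ≠ 0) :
    ∃ b : Basis (Fin 7) F (Unit ⊕ (Fin 3 ⊕ Fin 3) → F), IsStd (qOdd F 3) b (-1) := by
  obtain ⟨a, d, had⟩ : ∃ a d : F, a * a + d * d = -1 := by
    obtain ⟨x, y, hxy⟩ := FiniteField.exists_root_sum_quadratic (f := (Polynomial.X : Polynomial F) ^ 2)
      (g := (Polynomial.X : Polynomial F) ^ 2 - Polynomial.C (-1))
      (Polynomial.degree_X_pow 2) (Polynomial.degree_X_pow_sub_C (by norm_num) _)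
      (FiniteField.odd_card_of_char_ne_two fun h => h2 (by
        haveI := ringChar.of_eq h; exact CharTwo.two_eq_zero))
    simp at hxy
    exact ⟨x, y, by linear_combination hxy⟩
  obtain ⟨f, hf⟩ : ∃ f : Fin 7 → (Unit ⊕ (Fin 3 ⊕ Fin 3) → F), f =
      ![Sum.elim ![a] (Sum.elim ![d, 0, 0] ![d, 0, 0]) ∘ (Sum.map (fun _ => 0) id),
        Sum.elim ![-d] (Sum.elim ![a, 0, 0] ![a, 0, 0]) ∘ (Sum.map (fun _ => 0) id),
        Sum.elim ![0] (Sum.elim ![0, a, d] ![0, a, d]) ∘ (Sum.map (fun _ => 0) id),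
        Sum.elim ![0] (Sum.elim ![0, -d, a] ![0, -d, a]) ∘ (Sum.map (fun _ => 0) id),
        Sum.elim ![0] (Sum.elim ![1, 0, 0] ![-1, 0, 0]) ∘ (Sum.map (fun _ => 0) id),
        Sum.elim ![0] (Sum.elim ![0, 1, 0] ![0, -1, 0]) ∘ (Sum.map (fun _ => 0) id),
        Sum.elim ![0] (Sum.elim ![0, 0, 1] ![0, 0, -1]) ∘ (Sum.map (fun _ => 0) id)] := ⟨_, rfl⟩
  have hq : ∀ v : Unit ⊕ (Fin 3 ⊕ Fin 3) → F, qOdd F 3 v =
      v (.inl ()) * v (.inl ()) + (v (.inr (.inl 0)) * v (.inr (.inr 0)) + v (.inr (.inl 1)) * v (.inr (.inr 1)) +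
        v (.inr (.inl 2)) * v (.inr (.inr 2))) := fun v => by
    rw [coe_qOdd]; simp [Cfsg.quadFormOdd, Fin.sum_univ_three, pow_two]
  have hfv : ∀ i, qOdd F 3 (f i) = -1 := by
    intro i
    rw [hq, hf]
    fin_cases i <;> simp <;> linear_combination had
  have hfo : ∀ i k, i ≠ k → polar (qOdd F 3) (f i) (f k) = 0 := by
    intro i k hik
    rw [polar, hq, hq, hq, hf]
    fin_cases i <;> fin_cases k <;> simp at hik ⊢ <;> ring
  have hli : LinearIndependent F f :=
    IsFrame.indep (Q := qOdd F 3) ⟨hfo, fun i => by rw [hfv]; exact neg_ne_zero.2 one_ne_zero⟩ h2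
  refine ⟨basisOfLinearIndependentOfCardEqFinrank hli (by simp), h2, neg_ne_zero.2 one_ne_zero, ?_, ?_⟩
  · intro i; rw [coe_basisOfLinearIndependentOfCardEqFinrank]; exact hfv i
  · intro i j h; rw [coe_basisOfLinearIndependentOfCardEqFinrank]; exact hfo i j h

end Cfsg.Agent.Omega7Fusion
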