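/-
A group realised as the kernel of parity and spinor norm in dimension seven, two a non-square: its Sylow
2-subgroup, the normalizer of it and the strongly closed subgroups.
-/
import Cfsg.Agent.Lib.Omega7Fusion.Frame
import Cfsg.Agent.Lib.Fusion.Simple
import Cfsg.Agent.Lib.Fusion.AltLocal
import Cfsg.Agent.Lib.Transfer.Fusion
import Mathlib.GroupTheory.Sylow
import Mathlib.GroupTheory.Nilpotent

set_option autoImplicit false

namespace Cfsg.Agent.Omega7Fusion

open QuadraticMap Module Equiv Cfsg.Agent.Orth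

variable {F V G : Type*} [Field F] [AddCommGroup V] [Module F V] [Group G] {Q : QuadraticForm F V}

/-- G is the kernel of χ inside the orthogonal group of Q, for a standard basis b. -/
structure Model (Q : QuadraticForm F V) (b : Basis (Fin 7) F V) (c : F) (χ : oGroup Q →* SpinVal F)
    (ρ : G →* oGroup Q) : Prop where
  std : IsStd Q b c
  two_ns : ¬IsSquare (2 : F)
  spin : ∀ (r : oGroup Q) (v : V), IsRefl r.1 Q v → χ r = reflVal Q v
  inj : Function.Injective ρ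
  ker : ∀ g, χ (ρ g) = 1
  surj : ∀ h, χ h = 1 → ∃ g, ρ g = h

/-- ρ followed by the inclusion -/
def gm (ρ : G →* oGroup Q) : G →* (V ≃ₗ[F] V) := (oGroup Q).subtype.comp ρ

variable {b : Basis (Fin 7) F V} {c : F} {χ : oGroup Q →* SpinVal F} {ρ : G →* oGroup Q}

theorem Model.gm_inj (hm : Model Q b c χ ρ) : Function.Injective (gm ρ) :=
  (Subtype.val_injective).comp hm.inj

theorem Model.exists_mn (hm : Model Q b c χ ρ) {ε : SV} {σ : Perm (Fin 7)} (hε : Ev ε) (hσ : Perm.sign σ = 1) :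
    ∃ g, gm ρ g = mn b ε σ := by
  obtain ⟨g, hg⟩ := hm.surj ⟨mn b ε σ, mn_mem hm.std ε σ⟩
    ((chi_mn_iff hm.std hm.two_ns χ hm.spin _ ε σ rfl).2 ⟨hε, hσ⟩)
  exact ⟨g, congrArg Subtype.val hg⟩

theorem Model.even_of_mn (hm : Model Q b c χ ρ) {g : G} {ε : SV} {σ : Perm (Fin 7)} (hg : gm ρ g = mn b ε σ) :
    Ev ε ∧ Perm.sign σ = 1 :=
  (chi_mn_iff hm.std hm.two_ns χ hm.spin (ρ g) ε σ hg).1 (hm.ker g)

theorem mn_pow (b : Basis (Fin 7) F V) (ε : SV) (σ : Perm (Fin 7)) :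
    ∀ n : ℕ, ∃ δ : SV, mn b ε σ ^ n = mn b δ (σ ^ n)
  | 0 => ⟨1, by rw [pow_zero, pow_zero, mn_one]⟩
  | n + 1 => by
    obtain ⟨δ, hδ⟩ := mn_pow b ε σ n
    exact ⟨_, by rw [pow_succ, pow_succ, hδ, mn_mul]⟩

theorem Ev.mul {ε δ : SV} (h : Ev ε) (h' : Ev δ) : Ev (ε * δ) := by
  simp only [Ev, Pi.mul_apply, Finset.prod_mul_distrib] at *
  rw [h, h', one_mul]

theorem Ev.comp {ε : SV} (h : Ev ε) (σ : Perm (Fin 7)) : Ev (fun x => ε (σ x)) := by
  simp only [Ev] at *
  rwa [Equiv.prod_comp σ ε]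

variable (b ρ) in
/-- the 2-subgroup E : T -/
def s0 [Finite G] : Subgroup G where
  carrier := {g | ∃ (ε : SV) (k : Fin 8), Ev ε ∧ gm ρ g = mn b ε (tP k)}
  one_mem' := ⟨1, 0, by simp [Ev], by rw [map_one, tP_zero, mn_one]⟩
  mul_mem' := by
    rintro g g' ⟨ε, k, hε, hg⟩ ⟨ε', k', hε', hg'⟩
    obtain ⟨l, hl⟩ := tP_mul k k'
    exact ⟨_, l, hε.mul (hε'.comp (tP k).symm), by rw [map_mul, hg, hg', mn_mul, hl]⟩
  inv_mem' := by
    intro g hg
    obtain ⟨n, hn⟩ : ∃ n : ℕ, g ^ n = g⁻¹ :=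
      (isOfFinOrder_of_finite g).mem_powers_iff_mem_zpowers.2 (inv_mem (Subgroup.mem_zpowers g))
    rw [← hn]
    clear hn
    induction n with
    | zero => exact ⟨1, 0, by simp [Ev], by rw [pow_zero, map_one, tP_zero, mn_one]⟩
    | succ n ih =>
      rw [pow_succ]
      obtain ⟨ε, k, hε, hg'⟩ := ih
      obtain ⟨ε', k', hε', hg''⟩ := hg
      obtain ⟨l, hl⟩ := tP_mul k k'
      exact ⟨_, l, hε.mul (hε'.comp (tP k).symm), by rw [map_mul, hg', hg'', mn_mul, hl]⟩

theorem mem_s0 [Finite G] {g : G} :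
    g ∈ s0 b ρ ↔ ∃ (ε : SV) (k : Fin 8), Ev ε ∧ gm ρ g = mn b ε (tP k) := Iff.rfl

variable [Finite G]

theorem Model.s0_isPGroup (hm : Model Q b c χ ρ) : IsPGroup 2 (s0 b ρ) := by
  rintro ⟨g, ε, k, hε, hg⟩
  refine ⟨3, Subtype.ext (hm.gm_inj ?_)⟩
  show gm ρ (g ^ 2 ^ 3) = gm ρ 1
  rw [map_one, show 2 ^ 3 = 4 * 2 from rfl, pow_mul, map_pow, map_pow, hg]
  obtain ⟨δ, hδ⟩ := mn_pow b ε (tP k) 4
  rw [hδ, tP_pow_four, pow_two, mn_mul, mul_one,
    show δ * (fun x => δ ((1 : Perm (Fin 7)).symm x)) = 1 from funext fun x => Int.units_mul_self _, mn_one]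

/-- A commuting family of 64 elements of E : T lies in E. -/
theorem Model.family (hm : Model Q b c χ ρ) {α : Type*} [Fintype α] (hα : Fintype.card α = 64) (f : α → G)
    (hf : Function.Injective f) (hS : ∀ a, f a ∈ s0 b ρ) (hc : ∀ a a', f a * f a' = f a' * f a) :
    ∀ a, ∃ ε, Ev ε ∧ gm ρ (f a) = mn b ε 1 := by
  classical
  choose e p hev hfp using fun a => mem_s0.1 (hS a)
  by_contra! hne
  obtain ⟨a₁, ha₁⟩ := hne
  have hp1 : p a₁ ≠ 0 := fun h => ha₁ (e a₁) (hev a₁) (by rw [hfp, h, tP_zero])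
  obtain ⟨K, hK⟩ : ∃ K : Finset (Fin 8), K = Finset.univ.image p := ⟨_, rfl⟩
  have hKc : ∀ i ∈ K, ∀ j ∈ K, tP i * tP j = tP j * tP i := by
    intro i hi j hj
    rw [hK, Finset.mem_image] at hi hj
    obtain ⟨a, -, rfl⟩ := hi
    obtain ⟨a', -, rfl⟩ := hj
    have h := congrArg (gm ρ) (hc a a')
    rw [map_mul, map_mul, hfp, hfp, mn_mul, mn_mul] at h
    exact (mn_inj hm.std.two b h).2
  obtain ⟨Fix, hFix⟩ : ∃ Fix : Finset SV,
      Fix = Finset.univ.filter fun ε : SV => Ev ε ∧ ∀ k ∈ K, ∀ x, ε (tP k x) = ε x := ⟨_, rfl⟩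
  have hfib : ∀ k, (Finset.univ.filter fun a => p a = k).card ≤ Fix.card := by
    intro k
    rcases (Finset.univ.filter fun a => p a = k).eq_empty_or_nonempty with h | ⟨a₀, ha₀⟩
    · simp [h]
    have ha₀k : p a₀ = k := (Finset.mem_filter.1 ha₀).2
    have hx : ∀ a, p a = k → ∃ δ ∈ Fix, gm ρ (f a * (f a₀)⁻¹) = mn b δ 1 := by
      intro a hak
      obtain ⟨δ, l, hδ, hl⟩ := mem_s0.1 (mul_mem (hS a) (inv_mem (hS a₀)))
      have hl1 : tP l = 1 := by
        have h : gm ρ (f a * (f a₀)⁻¹) * gm ρ (f a₀) = gm ρ (f a) := by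
          rw [← map_mul, inv_mul_cancel_right]
        rw [hl, hfp, hfp, mn_mul, hak, ha₀k] at h
        exact mul_eq_right.1 (mn_inj hm.std.two b h).2
      refine ⟨δ, ?_, by rw [hl, hl1]⟩
      rw [hFix, Finset.mem_filter]
      refine ⟨Finset.mem_univ _, hδ, fun j hj x => ?_⟩
      rw [hK, Finset.mem_image] at hj
      obtain ⟨a', -, rfl⟩ := hj
      have hcomm : f a * (f a₀)⁻¹ * f a' = f a' * (f a * (f a₀)⁻¹) := by
        have h1 : Commute (f a) (f a') := hc a a'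
        have h2 : Commute (f a₀) (f a') := hc a₀ a'
        exact (h1.mul_left h2.inv_left).eq
      have h := congrArg (gm ρ) hcomm
      rw [map_mul, map_mul, map_mul, map_mul, ← map_mul (gm ρ) (f a), hl, hl1, hfp, mn_mul, mn_mul] at h
      have h3 := congrFun (mn_inj hm.std.two b h).1 (tP (p a') x)
      simp only [Pi.mul_apply, Equiv.symm_apply_apply, Perm.one_symm, Perm.one_apply] at h3
      rw [mul_comm] at h3
      exact mul_left_cancel h3
    choose! δf hδf hδe using hx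
    refine Finset.card_le_card_of_injOn δf (fun a ha => hδf a (Finset.mem_filter.1 ha).2) ?_
    intro a ha a' ha' he
    refine hf (mul_right_cancel (b := (f a₀)⁻¹) (hm.gm_inj ?_))
    rw [hδe a (Finset.mem_filter.1 ha).2, hδe a' (Finset.mem_filter.1 ha').2, he]
  have htot : 64 ≤ K.card * Fix.card := by
    rw [← hα, ← Finset.card_univ, Finset.card_eq_sum_card_fiberwise (f := p) (t := K) (fun a _ => by
      rw [hK]; exact Finset.mem_coe.2 (Finset.mem_image_of_mem p (Finset.mem_univ a)))]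
    exact (Finset.sum_le_card_nsmul K _ Fix.card fun k _ => hfib k).trans (le_of_eq (smul_eq_mul _ _))
  have h1K : p a₁ ∈ K := by rw [hK]; exact Finset.mem_image_of_mem p (Finset.mem_univ a₁)
  by_cases hij : ∃ j ∈ K, j ≠ 0 ∧ j ≠ p a₁
  · obtain ⟨j, hj, hj0, hj1⟩ := hij
    have hF : Fix.card ≤ 8 := by
      refine le_trans (Finset.card_le_card fun ε hε => ?_) (fix_two (p a₁) j hp1 hj0 (Ne.symm hj1))
      rw [hFix, Finset.mem_filter] at hε
      exact Finset.mem_filter.2 ⟨Finset.mem_univ _, hε.2.1, hε.2.2 _ h1K, hε.2.2 _ hj⟩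
    have hK7 : K.card ≤ 7 := by
      by_contra! h
      have : K = Finset.univ := Finset.eq_univ_of_card _ (le_antisymm (Finset.card_le_univ _) (by rw [Fintype.card_fin]; omega))
      obtain ⟨i, j, hij⟩ := tP_noncomm
      exact hij (hKc i (this ▸ Finset.mem_univ _) j (this ▸ Finset.mem_univ _))
    have := Nat.mul_le_mul hK7 hF
    omega
  · push Not at hij
    have hK2 : K.card ≤ 2 := by
      refine (Finset.card_le_card (t := {0, p a₁}) fun j hj => ?_).trans Finset.card_le_two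
      by_cases h0 : j = 0
      · simp [h0]
      · simp [hij j hj h0]
    have hF : Fix.card ≤ 16 := by
      refine le_trans (Finset.card_le_card fun ε hε => ?_) (fix_one (p a₁) hp1)
      rw [hFix, Finset.mem_filter] at hε
      exact Finset.mem_filter.2 ⟨Finset.mem_univ _, hε.2.1, hε.2.2 _ h1K⟩
    have := Nat.mul_le_mul hK2 hF
    omega

/-- An element normalizing E : T normalizes E. -/
theorem Model.normalizes_diag (hm : Model Q b c χ ρ) {g : G}
    (hg : g ∈ Subgroup.normalizer (s0 b ρ : Set G)) (δ : SV) (hδ : Ev δ) :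
    ∃ ε, gm ρ g * mn b δ 1 * (gm ρ g)⁻¹ = mn b ε 1 := by
  classical
  choose d hd using fun ε : {ε : SV // Ev ε} => hm.exists_mn ε.2 (map_one Perm.sign)
  have hds : ∀ ε, d ε ∈ s0 b ρ := fun ε => ⟨ε.1, 0, ε.2, by rw [hd, tP_zero]⟩
  have hcard : Fintype.card {ε : SV // Ev ε} = 64 := by rw [Fintype.card_subtype]; exact ev_card
  obtain ⟨ε, -, hε⟩ := hm.family hcard (fun ε => g * d ε * g⁻¹) (fun x y h => Subtype.ext
    (mn_inj hm.std.two b ((hd x).symm.trans ((congrArg (gm ρ) (mul_left_cancel (mul_right_cancel h))).trans (hd y)))).1)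
    (fun x => (Subgroup.mem_normalizer_iff.1 hg _).1 (hds x))
    (fun x y => by
      have h : d x * d y = d y * d x := hm.gm_inj (by
        rw [map_mul, map_mul, hd, hd, mn_mul, mn_mul]
        congr 1
        funext i
        simp [mul_comm, show (1 : Perm (Fin 7)).symm = 1 from rfl])
      rw [show g * d x * g⁻¹ * (g * d y * g⁻¹) = g * (d x * d y) * g⁻¹ by group,
        show g * d y * g⁻¹ * (g * d x * g⁻¹) = g * (d y * d x) * g⁻¹ by group, h]) ⟨δ, hδ⟩
  exact ⟨ε, by rw [← hε, map_mul, map_mul, map_inv, hd]⟩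

theorem eigen_single (h2 : (2 : F) ≠ 0) (b : Basis (Fin 7) F V) {v : V} (hv : v ≠ 0)
    (h : ∀ δ : SV, Ev δ → ∃ e : ℤˣ, mn b δ 1 v = (cu F e : F) • v) : ∃ j r, v = (r : F) • b j := by
  obtain ⟨j, hj⟩ : ∃ j, b.repr v j ≠ 0 := by
    by_contra! h0
    exact hv (b.ext_elem fun i => by rw [h0 i, map_zero, Finsupp.zero_apply])
  refine ⟨j, b.repr v j, b.ext_elem fun k => ?_⟩
  rw [map_smul, Finsupp.smul_apply, Basis.repr_self, smul_eq_mul]
  rcases eq_or_ne k j with rfl | hk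
  · rw [Finsupp.single_eq_same, mul_one]
  rw [Finsupp.single_eq_of_ne hk, mul_zero]
  by_contra hk0
  obtain ⟨l, hl1, hl2⟩ : ∃ l : Fin 7, l ≠ j ∧ l ≠ k := by clear h hk0 hj; revert j k; decide
  have hev : Ev (tv j l) := by clear h hk0 hj hk hl2; revert j l; decide +kernel
  obtain ⟨e, he⟩ := h _ hev
  have hcoord : ∀ i, (cu F (tv j l i) : F) * b.repr v i = cu F e * b.repr v i := by
    intro i
    have hl : ∀ w, b.repr (mn b (tv j l) 1 w) i = (cu F (tv j l i) : F) * b.repr w i := by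
      intro w
      conv_lhs => rw [← b.sum_repr w]
      simp only [map_sum, map_smul, mn_apply, Perm.one_apply, Finsupp.coe_finset_sum, Finset.sum_apply,
        Finsupp.smul_apply, Basis.repr_self, smul_eq_mul]
      rw [Finset.sum_eq_single i]
      · rw [Finsupp.single_eq_same]; ring
      · intro x _ hx; rw [Finsupp.single_eq_of_ne hx.symm]; ring
      · simp
    rw [← hl, he, map_smul, Finsupp.smul_apply, smul_eq_mul]
  have e1 := hcoord j
  have e2 := hcoord k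
  rw [show tv j l j = -1 by simp [tv], cu_cases (-1), if_neg (by decide)] at e1
  rw [show tv j l k = 1 by simp [tv, hk, hl2.symm], map_one, Units.val_one] at e2
  have he1 : (cu F e : F) = 1 := (mul_right_cancel₀ hk0 e2).symm
  rw [he1] at e1
  exact h2 (by linear_combination -(mul_right_cancel₀ hj e1))

/-- The normalizer of E : T is itself. -/
theorem Model.normalizer_eq (hm : Model Q b c χ ρ) : Subgroup.normalizer (s0 b ρ : Set G) = s0 b ρ := by
  refine le_antisymm (fun g hg => ?_) Subgroup.le_normalizer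
  have h2 := hm.std.two
  obtain ⟨L, hL⟩ : ∃ L, L = gm ρ g := ⟨_, rfl⟩
  have hne : ∀ i, L (b i) ≠ 0 := fun i h => b.ne_zero i (L.injective (h.trans (map_zero L).symm))
  have heig : ∀ i (δ : SV), Ev δ → ∃ e : ℤˣ, mn b δ 1 (L (b i)) = (cu F e : F) • L (b i) := by
    intro i δ hδ
    obtain ⟨ε, hε⟩ := hm.normalizes_diag (inv_mem hg) δ hδ
    refine ⟨ε i, ?_⟩
    rw [map_inv, inv_inv, ← hL] at hε
    have h : mn b δ 1 * L = L * mn b ε 1 := by rw [← hε, mul_assoc, mul_inv_cancel_left]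
    have h1 := congrArg (fun T : V ≃ₗ[F] V => T (b i)) h
    simp only [LinearEquiv.mul_apply, mn_apply, Perm.one_apply, map_smul] at h1
    exact h1
  choose s r hr using fun i => eigen_single h2 b (hne i) (heig i)
  have hval : ∀ i, r i * r i = 1 := fun i => by
    have h1 : Q (L (b i)) = Q (b i) := by rw [hL]; exact (ρ g).2 (b i)
    rw [hr, q_smul, hm.std.val, hm.std.val] at h1
    exact mul_right_cancel₀ hm.std.ne (h1.trans (one_mul c).symm)
  have hinj : Function.Injective s := by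
    intro i j hij
    by_contra hne'
    have h1 : L (r j • b i - r i • b j) = 0 := by
      rw [map_sub, map_smul, map_smul, hr, hr, hij, smul_smul, smul_smul, mul_comm, sub_self]
    rw [L.map_eq_zero_iff] at h1
    have h3 := congrArg (fun v => b.repr v i) h1
    simp [hne'] at h3
    have := hval j
    rw [h3, mul_zero] at this
    exact zero_ne_one this
  obtain ⟨σ, hσ⟩ : ∃ σ : Perm (Fin 7), ∀ i, σ i = s i :=
    ⟨Equiv.ofBijective s hinj.bijective_of_finite, fun i => rfl⟩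
  classical
  have hge : gm ρ g = mn b (fun j => if r (σ.symm j) = 1 then 1 else -1) σ := b.ext' fun i => by
    rw [← hL, hr, mn_apply, Equiv.symm_apply_apply, hσ]
    rcases mul_self_eq_one_iff.1 (hval i) with h | h
    · rw [h, if_pos rfl, map_one, Units.val_one]
    · rw [h, if_neg fun h' : (-1 : F) = 1 => h2 (by linear_combination -h'), cu_cases, if_neg (by decide)]
  obtain ⟨hev, hsg⟩ := hm.even_of_mn hge
  have hnorm : ∀ k, ∃ l, σ * tP k = tP l * σ := by
    intro k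
    obtain ⟨p, hp⟩ := hm.exists_mn (ε := 1) (by simp [Ev]) (tP_sign k)
    obtain ⟨δ, l, -, hl⟩ := mem_s0.1 ((Subgroup.mem_normalizer_iff.1 hg p).1 ⟨1, k, by simp [Ev], hp⟩)
    have h : gm ρ (g * p * g⁻¹) * gm ρ g = gm ρ g * gm ρ p := by
      rw [← map_mul, ← map_mul, inv_mul_cancel_right]
    rw [hl, hge, hp, mn_mul, mn_mul] at h
    exact ⟨l, (mn_inj h2 b h).2.symm⟩
  obtain ⟨k, hk | hk⟩ := normalizer_list σ hnorm
  · exact ⟨_, k, hev, hk ▸ hge⟩
  · rw [hk, map_mul, tP_sign, mul_one, Perm.sign_swap (by decide)] at hsg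
    exact absurd hsg (by decide)

theorem Model.s0_max (hm : Model Q b c χ ρ) {P : Subgroup G} (hP : IsPGroup 2 P) (hle : s0 b ρ ≤ P) :
    P = s0 b ρ := by
  rcases hle.eq_or_lt with h | h
  · exact h.symm
  · exact absurd ((Cfsg.Agent.Fusion.lt_inf_normalizer hP.isNilpotent h).trans_le inf_le_right)
      (by rw [hm.normalizer_eq]; exact lt_irrefl _)

theorem Model.map (hm : Model Q b c χ ρ) {h : V ≃ₗ[F] V} (hh : h ∈ oGroup Q) :
    Model Q (b.map h) c χ ρ where
  std := ⟨hm.std.two, hm.std.ne, fun i => by rw [Basis.map_apply, hh]; exact hm.std.val i,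
    fun i j hij => by rw [Basis.map_apply, Basis.map_apply, b_map hh]; exact hm.std.orth i j hij⟩
  two_ns := hm.two_ns
  spin := hm.spin
  inj := hm.inj
  ker := hm.ker
  surj := hm.surj

theorem mn_map (b : Basis (Fin 7) F V) (h : V ≃ₗ[F] V) (ε : SV) (σ : Perm (Fin 7)) :
    mn (b.map h) ε σ = h * mn b ε σ * h⁻¹ := by
  refine (b.map h).ext' fun i => ?_
  rw [mn_apply, LinearEquiv.mul_apply, LinearEquiv.mul_apply, Basis.map_apply, Basis.map_apply,
    show h⁻¹ (h (b i)) = b i from h.symm_apply_apply _, mn_apply, map_smul]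

/-- Every Sylow 2-subgroup is E : T for a standard basis. -/
theorem Model.sylow_eq (hm : Model Q b c χ ρ) (S : Sylow 2 G) :
    ∃ b' : Basis (Fin 7) F V, Model Q b' c χ ρ ∧ (S : Subgroup G) = s0 b' ρ := by
  haveI : Fact (Nat.Prime 2) := ⟨Nat.prime_two⟩
  obtain ⟨P, hP⟩ := hm.s0_isPGroup.exists_le_sylow
  obtain ⟨g, hg⟩ := MulAction.exists_smul_eq G P S
  refine ⟨b.map (gm ρ g), hm.map (ρ g).2, ?_⟩
  rw [← hg, Sylow.coe_subgroup_smul, hm.s0_max P.2 hP]
  ext x
  rw [Subgroup.mem_pointwise_smul_iff_inv_smul_mem, mem_s0, mem_s0]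
  refine exists₂_congr fun ε k => and_congr_right fun _ => ?_
  rw [mn_map, show (MulAut.conj g)⁻¹ • x = g⁻¹ * x * g by simp [MulAut.smul_def], map_mul, map_mul, map_inv]
  constructor
  · intro h; rw [← h]; group
  · intro h; rw [h]; group

theorem ne_bot (hm : Model Q b c χ ρ) : s0 b ρ ≠ ⊥ := by
  obtain ⟨g, hg⟩ := hm.exists_mn (ε := tv 0 1) (σ := 1) (by decide) (map_one _)
  intro h
  have : g ∈ s0 b ρ := ⟨tv 0 1, 0, by decide, by rw [hg, tP_zero]⟩
  rw [h, Subgroup.mem_bot] at this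
  rw [this, map_one, ← mn_one b] at hg
  exact absurd (congrFun (mn_inj hm.std.two b hg).1 0) (by decide)

/-- A non-trivial normal subgroup of a finite 2-group meets the centre. -/
theorem exists_central {H : Type*} [Group H] [Finite H] {N : Subgroup H} [hNn : N.Normal]
    (hH : IsPGroup 2 H) (hN : N ≠ ⊥) : ∃ z ∈ N, z ∈ Subgroup.center H ∧ z ≠ 1 := by
  haveI : Fact (Nat.Prime 2) := ⟨Nat.prime_two⟩
  haveI : Group.IsNilpotent H := hH.isNilpotent
  obtain ⟨n, hn⟩ := Group.IsNilpotent.nilpotent' (G := H)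
  by_contra! hbot
  apply hN
  have : ∀ i, N ⊓ Subgroup.upperCentralSeries H i = ⊥ := by
    intro i
    induction i with
    | zero => simp
    | succ i ih =>
      rw [eq_bot_iff]
      intro x hx
      obtain ⟨hxN, hxU⟩ := Subgroup.mem_inf.1 hx
      have hxc : x ∈ Subgroup.center H := by
        rw [Subgroup.mem_center_iff]
        intro y
        have h1 : x * y * x⁻¹ * y⁻¹ ∈ N ⊓ Subgroup.upperCentralSeries H i :=
          Subgroup.mem_inf.2 ⟨by
            have := mul_mem hxN (hNn.conj_mem x⁻¹ (inv_mem hxN) y)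
            simpa [mul_assoc] using this,
            (Subgroup.mem_upperCentralSeries_succ_iff.1 hxU) y⟩
        rw [ih, Subgroup.mem_bot] at h1
        exact (mul_inv_eq_iff_eq_mul.1 (mul_inv_eq_one.1 h1)).symm
      exact Subgroup.mem_bot.2 (hbot x hxN hxc)
  have := this n
  rwa [hn, inf_top_eq] at this

/-- No proper non-trivial subgroup of E : T is strongly closed. -/
theorem Model.closed [Fintype F] (hm : Model Q b c χ ρ) {K : Subgroup G} (hle : K ≤ s0 b ρ)
    (hcl : ∀ g : G, ∀ x ∈ K, g * x * g⁻¹ ∈ s0 b ρ → g * x * g⁻¹ ∈ K) (hK : K ≠ ⊥) : K = s0 b ρ := by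
  have h2 := hm.std.two
  haveI : (K.subgroupOf (s0 b ρ)).Normal := ⟨fun x hx y => by
    show (y : G) * x * (y : G)⁻¹ ∈ K
    exact hcl y x hx (mul_mem (mul_mem y.2 x.2) (inv_mem y.2))⟩
  obtain ⟨z, hzK, hzc, hz1⟩ := exists_central (N := K.subgroupOf (s0 b ρ)) hm.s0_isPGroup (by
    rw [Ne, Subgroup.subgroupOf_eq_bot, disjoint_iff, inf_eq_left.2 hle]
    exact hK)
  obtain ⟨ε, k, hε, hz⟩ := mem_s0.1 z.2
  have hcomm : ∀ y ∈ s0 b ρ, gm ρ y * gm ρ (z : G) = gm ρ (z : G) * gm ρ y := fun y hy => by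
    rw [← map_mul, ← map_mul]
    exact congrArg (gm ρ) (congrArg Subtype.val (Subgroup.mem_center_iff.1 hzc ⟨y, hy⟩))
  have hk : k = 0 := by
    by_contra hk
    obtain ⟨δ, hδ, x, hx⟩ := faithful k hk
    obtain ⟨d, hd⟩ := hm.exists_mn hδ (map_one Perm.sign)
    have h := hcomm d ⟨δ, 0, hδ, by rw [hd, tP_zero]⟩
    rw [hd, hz, mn_mul, mn_mul] at h
    have h3 := congrFun (mn_inj h2 b h).1 (tP k x)
    simp only [Pi.mul_apply, Equiv.symm_apply_apply, Perm.one_symm, Perm.one_apply] at h3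
    rw [mul_comm] at h3
    exact hx (mul_left_cancel h3)
  subst hk
  rw [tP_zero] at hz
  have hinv : ∀ i x, ε (tP i x) = ε x := by
    intro i x
    obtain ⟨p, hp⟩ := hm.exists_mn (ε := 1) (by simp [Ev]) (tP_sign i)
    have h := hcomm p ⟨1, i, by simp [Ev], hp⟩
    rw [hp, hz, mn_mul, mn_mul] at h
    have h3 := congrFun (mn_inj h2 b h).1 (tP i x)
    simp only [Pi.mul_apply, Pi.one_apply, mul_one, one_mul, Equiv.symm_apply_apply] at h3
    exact h3.symm
  have hε1 : ε ≠ 1 := fun h => hz1 (Subtype.ext (hm.gm_inj (by rw [hz, h, mn_one]; exact (map_one _).symm)))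
  -- the sign vectors of K
  obtain ⟨D, hD⟩ : ∃ D : Set SV, D = {δ | ∃ g ∈ K, gm ρ g = mn b δ 1} := ⟨_, rfl⟩
  have hDone : (1 : SV) ∈ D := by rw [hD]; exact ⟨1, one_mem K, by rw [map_one, mn_one]⟩
  have hDev : ∀ δ ∈ D, Ev δ := by rw [hD]; rintro δ ⟨g, -, hg⟩; exact (hm.even_of_mn hg).1
  have hDmul : ∀ δ ∈ D, ∀ δ' ∈ D, δ * δ' ∈ D := by
    rw [hD]
    rintro δ ⟨g, hg, hge⟩ δ' ⟨g', hg', hge'⟩
    exact ⟨g * g', mul_mem hg hg', by rw [map_mul, hge, hge', mn_mul, mul_one]; rfl⟩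
  have hDperm : ∀ δ ∈ D, ∀ π : Perm (Fin 7), Perm.sign π = 1 → (fun x => δ (π.symm x)) ∈ D := by
    intro δ hδ π hπ
    have hev := (hDev δ hδ).comp π.symm
    rw [hD] at hδ ⊢
    obtain ⟨g, hg, hge⟩ := hδ
    obtain ⟨p, hp⟩ := hm.exists_mn (ε := 1) (by simp [Ev]) hπ
    have he : gm ρ (p * g * p⁻¹) = mn b (fun x => δ (π.symm x)) 1 := by
      rw [map_mul, map_mul, map_inv, mul_inv_eq_iff_eq_mul, hp, hge, mn_mul, mn_mul]
      congr 1
      ext x
      simp
    exact ⟨_, hcl p g hg ⟨_, 0, hev, by rw [he, tP_zero]⟩, he⟩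
  have hεD : ε ∈ D := by rw [hD]; exact ⟨z, hzK, hz⟩
  obtain ⟨a, a', haa, htv⟩ : ∃ a a' : Fin 7, a ≠ a' ∧ tv a a' ∈ D := by
    rcases invariant ε hε hinv hε1 with rfl | rfl | rfl
    · exact ⟨4, 5, by decide, w2_eq ▸ hεD⟩
    · refine ⟨3, 4, by decide, w4_mul ▸ hDmul _ hεD _ ?_⟩
      exact hDperm _ hεD (swap 0 1 * swap 3 4 : Perm (Fin 7)).symm (by rw [Perm.sign_symm]; simp)
    · refine ⟨5, 6, by decide, w6_mul ▸ hDmul _ hεD _ ?_⟩
      exact hDperm _ hεD (swap 0 1 * swap 5 6 : Perm (Fin 7)).symm (by rw [Perm.sign_symm]; simp)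
  have hpv : ∀ i, pv i ∈ D := by
    intro i
    obtain ⟨π, hπ, hπa, hπb⟩ := exists_even_move haa i
    convert hDperm _ htv π hπ using 1
    funext x
    simp only [pv, tv, Equiv.symm_apply_eq, hπa, hπb]
  have hDall : ∀ δ, Ev δ → δ ∈ D := by
    intro δ hδ
    rw [pv_gen δ hδ]
    refine Finset.prod_induction _ (· ∈ D) (fun x y hx hy => hDmul x hx y hy) hDone fun i _ => ?_
    split_ifs
    exacts [hpv i, hDone]
  obtain ⟨P, hP⟩ : ∃ P : Set (Perm (Fin 7)), P = {σ | ∃ g ∈ K, gm ρ g = mn b 1 σ} := ⟨_, rfl⟩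
  have hPmul : ∀ x ∈ P, ∀ y ∈ P, x * y ∈ P := by
    rw [hP]
    rintro x ⟨g, hg, hge⟩ y ⟨g', hg', hge'⟩
    exact ⟨g * g', mul_mem hg hg', by rw [map_mul, hge, hge', mn_mul, one_mul]; rfl⟩
  have hPA : pA ∈ P := by
    rw [hP]
    obtain ⟨g₀, hg₀, hge₀⟩ := exists_conj_pA hm.std hm.two_ns χ hm.spin
    obtain ⟨g, hg⟩ := hm.surj g₀ hg₀
    obtain ⟨d, hdK, hd⟩ : ∃ d ∈ K, gm ρ d = mn b (tv 0 1) 1 := by
      have := hDall (tv 0 1) (by decide); rwa [hD] at this
    have he : gm ρ (g * d * g⁻¹) = mn b 1 pA := by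
      rw [map_mul, map_mul, map_inv, mul_inv_eq_iff_eq_mul, hd]
      show (ρ g : V ≃ₗ[F] V) * mn b (tv 0 1) 1 = mn b 1 pA * (ρ g : V ≃ₗ[F] V)
      rw [hg]
      exact congrArg Subtype.val hge₀
    exact ⟨_, hcl g d hdK ⟨1, 1, by simp [Ev], he⟩, he⟩
  have hPconj : ∀ (π σ : Perm (Fin 7)) (i : Fin 8), σ = tP i → π * pA = σ * π → Perm.sign π = 1 → σ ∈ P := by
    intro π σ i hi hπσ hπ
    rw [hP] at hPA ⊢
    obtain ⟨g, hg, hge⟩ := hPA
    obtain ⟨p, hp⟩ := hm.exists_mn (ε := 1) (by simp [Ev]) hπ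
    have he : gm ρ (p * g * p⁻¹) = mn b 1 σ := by
      rw [map_mul, map_mul, map_inv, mul_inv_eq_iff_eq_mul, hp, hge, mn_mul, mn_mul, hπσ]
      congr 1
    exact ⟨_, hcl p g hg ⟨1, i, by simp [Ev], by rw [he, hi]⟩, he⟩
  have hPall : ∀ k, tP k ∈ P := fun k => tP_gen k P (by rw [hP]; exact ⟨1, one_mem K, by rw [map_one, mn_one]⟩) hPA
    (hPconj _ _ 2 rfl conj_pB (by simp)) (hPconj _ _ 4 rfl conj_pC (by simp)) hPmul
  refine le_antisymm hle fun x hx => ?_
  obtain ⟨δ, k, hδ, hx⟩ := mem_s0.1 hx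
  obtain ⟨d, hdK, hd⟩ : ∃ d ∈ K, gm ρ d = mn b δ 1 := by
    have := hDall δ hδ; rwa [hD] at this
  obtain ⟨p, hpK, hp⟩ : ∃ p ∈ K, gm ρ p = mn b 1 (tP k) := by
    have := hPall k; rwa [hP] at this
  obtain rfl : x = d * p := hm.gm_inj (by
    rw [hx, map_mul, hd, hp, mn_mul, one_mul]
    congr 1
    ext i
    simp)
  exact mul_mem hdK hpK

open Cfsg Cfsg.Agent.FusionSys in
/-- The conclusions about the fusion system. -/
theorem Model.fusion [Fintype F] (hm : Model Q b c χ ρ) (S : Sylow 2 G) :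
    (groupFusionSystem (S : Subgroup G)).autGroup (S : Subgroup G) = Inn ↥(S : Subgroup G) ∧
      (∀ T : Subgroup G, (groupFusionSystem (S : Subgroup G)).StronglyClosed T → T = ⊥ ∨ T = (S : Subgroup G)) ∧
      (groupFusionSystem (S : Subgroup G)).IsSimple 2 := by
  haveI : Fact (Nat.Prime 2) := ⟨Nat.prime_two⟩
  obtain ⟨b', hm', hS⟩ := hm.sylow_eq S
  have hsc : ∀ T : Subgroup G, (groupFusionSystem (S : Subgroup G)).StronglyClosed T →
      T = ⊥ ∨ T = (S : Subgroup G) := by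
    intro T hT
    obtain ⟨hTS, hcl⟩ := (group_stronglyClosed_iff S).1 hT
    rcases eq_or_ne T ⊥ with h | h
    · exact Or.inl h
    · refine Or.inr ((hm'.closed (hTS.trans hS.le) (fun g x hx hgx => hcl g x hx (hS ▸ hgx)) h).trans hS.symm)
  have haut : (groupFusionSystem (S : Subgroup G)).autGroup (S : Subgroup G) = Inn ↥(S : Subgroup G) := by
    refine le_antisymm ?_ (inn_le_autGroup _ le_rfl)
    rw [group_autGroup S le_rfl, inn_eq_autInducedBy_self]
    intro α hα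
    obtain ⟨g, -, hge⟩ := (mem_autInducedBy_iff α).1 hα
    refine (mem_autInducedBy_iff α).2 ⟨g, ?_, hge⟩
    have hg := mem_normalizer_of_autInduced hge
    rw [hS, hm'.normalizer_eq] at hg
    rwa [hS]
  exact ⟨haut, hsc, isSimple_of_inner (groupFusionSystem_saturated S) (hS ▸ ne_bot hm') haut hsc⟩

end Cfsg.Agent.Omega7Fusion
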