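/-
The commutator subgroup of the isometry group of the split form of dimension seven, two a non-square.
-/
import Cfsg.Agent.Lib.Omega7Fusion.Main
import Mathlib.NumberTheory.LegendreSymbol.QuadraticChar.GaussSum

set_option autoImplicit false

namespace Cfsg.Agent.Omega7Fusion

open QuadraticMap Module Cfsg.Agent.Orth

variable {F : Type*} [Field F]

theorem omega_model [Fintype F] (h2 : (2 : F) ≠ 0) (h2ns : ¬IsSquare (2 : F)) :
    ∃ (b : Basis (Fin 7) F (Unit ⊕ (Fin 3 ⊕ Fin 3) → F)) (χ : oGroup (qOdd F 3) →* SpinVal F)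
      (ρ : Cfsg.Omega F (⇑(qOdd F 3)) →* oGroup (qOdd F 3)), Model (qOdd F 3) b (-1) χ ρ := by
  obtain ⟨b, hb⟩ := exists_std (F := F) h2
  have hQ := qOdd_nondeg h2 3
  have hfr : finrank F (Unit ⊕ (Fin 3 ⊕ Fin 3) → F) = 7 := by
    rw [Module.finrank_fintype_fun_eq_card]; rfl
  obtain ⟨χ, hχ⟩ := exists_spinor hQ (Or.inr (by omega))
  obtain ⟨hker, -⟩ := spinor_spec hQ (by omega) (Or.inr (by omega)) χ hχ
  have hmap : (commutator (Cfsg.isometryGroup F (⇑(qOdd F 3)))).map (isoEquiv (qOdd F 3)).toMonoidHom =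
      commutator (oGroup (qOdd F 3)) := by
    rw [commutator_def, commutator_def, Subgroup.map_commutator,
      Subgroup.map_top_of_surjective _ (isoEquiv (qOdd F 3)).surjective]
  refine ⟨b, χ, (isoEquiv (qOdd F 3)).toMonoidHom.comp (Subgroup.subtype _), hb, h2ns, hχ,
    (isoEquiv (qOdd F 3)).injective.comp (Subgroup.subtype_injective _), fun g => ?_, fun h hh => ?_⟩
  · rw [← MonoidHom.mem_ker, hker, ← hmap]
    exact ⟨_, g.2, rfl⟩
  · have h1 : h ∈ χ.ker := hh
    rw [hker, ← hmap] at h1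
    obtain ⟨x, hx, rfl⟩ := h1
    exact ⟨⟨x, hx⟩, rfl⟩

open Cfsg in
theorem omega_fusion [Fintype F] (hq : Fintype.card F % 8 = 3 ∨ Fintype.card F % 8 = 5)
    (S : Sylow 2 (Cfsg.Omega F (⇑(qOdd F 3)))) :
    (groupFusionSystem (S : Subgroup (Cfsg.Omega F (⇑(qOdd F 3))))).autGroup S = Inn ↥(S : Subgroup (Cfsg.Omega F (⇑(qOdd F 3)))) ∧
      (∀ T : Subgroup (Cfsg.Omega F (⇑(qOdd F 3))),
        (groupFusionSystem (S : Subgroup (Cfsg.Omega F (⇑(qOdd F 3))))).StronglyClosed T → T = ⊥ ∨ T = S) ∧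
      (groupFusionSystem (S : Subgroup (Cfsg.Omega F (⇑(qOdd F 3))))).IsSimple 2 := by
  classical
  have h2 : (2 : F) ≠ 0 := fun h => by
    haveI : CharP F 2 := CharTwo.of_one_ne_zero_of_two_eq_zero one_ne_zero h
    have := FiniteField.even_card_of_char_two (ringChar.eq F 2)
    omega
  have h2ns : ¬IsSquare (2 : F) := by
    rw [FiniteField.isSquare_two_iff]
    omega
  obtain ⟨b, χ, ρ, hm⟩ := omega_model h2 h2ns
  exact hm.fusion S

end Cfsg.Agent.Omega7Fusion
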